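import Cfsg.Prelude.Def_HallClasses
import Cfsg.Agent.Solvable.Basics
import Cfsg.Agent.Transfer.Alperin
import Mathlib.GroupTheory.Frattini
import Mathlib.GroupTheory.SchurZassenhaus

/-!
Fusion in a dominating π-subgroup `H` of a π-homogeneous group: two elements of `H` conjugate in
the group are conjugate in `H`.
-/

set_option autoImplicit false
set_option linter.style.haveILetI false
set_option linter.unusedSectionVars false

namespace CfsgLib.DPiHom

open Subgroup
open scoped Pointwise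

universe u

variable {G : Type u} [Group G] [Finite G] {π : Set ℕ}

/-- The standing hypothesis. -/
structure Hyp (π : Set ℕ) (H : Subgroup G) : Prop where
  pi : Cfsg.IsPiSubgroup π H
  dom : ∀ Y : Subgroup G, Cfsg.IsPiSubgroup π Y → ∃ g : G, ∀ y ∈ Y, g * y * g⁻¹ ∈ H
  hom : ∀ Y : Subgroup G, Cfsg.IsPiSubgroup π Y → ∀ n ∈ normalizer (Y : Set G),
    (∀ q : ℕ, q.Prime → q ∣ orderOf n → q ∉ π) → ∀ y ∈ Y, n * y * n⁻¹ = y

theorem pi_of_pGroup {p : ℕ} [Fact p.Prime] (hp : p ∈ π) {Y : Subgroup G} (hY : IsPGroup p Y) :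
    Cfsg.IsPiSubgroup π Y := by
  obtain ⟨k, hk⟩ := IsPGroup.iff_card.1 hY
  intro q hq hqd
  rw [hk] at hqd
  rwa [(Nat.prime_dvd_prime_iff_eq hq Fact.out).1 (hq.dvd_of_dvd_pow hqd)]

theorem pi_map {M : Type u} [Group M] [Finite M] {Y : Subgroup M} (hY : Cfsg.IsPiSubgroup π Y)
    (f : M →* G) : Cfsg.IsPiSubgroup π (Y.map f) :=
  fun q hq hd => hY q hq (hd.trans (Y.card_map_dvd f))

theorem pi_of_le {X Y : Subgroup G} (hY : Cfsg.IsPiSubgroup π Y) (h : X ≤ Y) :
    Cfsg.IsPiSubgroup π X :=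
  fun q hq hd => hY q hq (hd.trans (Subgroup.card_dvd_of_le h))

theorem pi_sup {X Y : Subgroup G} (hX : Cfsg.IsPiSubgroup π X) (hY : Cfsg.IsPiSubgroup π Y)
    (h : X ≤ normalizer (Y : Set G)) : Cfsg.IsPiSubgroup π (X ⊔ Y) := by
  intro q hq hd
  have h1 : q ∣ Nat.card X * Nat.card Y :=
    (hd.trans (Dvd.intro _ rfl)).trans (CfsgLib.Solvable.card_sup_mul_card_inf h).dvd
  exact (hq.dvd_mul.1 h1).elim (hX q hq) (hY q hq)

theorem mem_normalizer_of_conj_mem {A : Subgroup G} {g : G} (h : ∀ a ∈ A, g * a * g⁻¹ ∈ A) :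
    g ∈ normalizer (A : Set G) := by
  have hle : A.map (MulAut.conj g).toMonoidHom ≤ A := by
    rintro _ ⟨a, ha, rfl⟩
    simpa using h a ha
  have heq : A.map (MulAut.conj g).toMonoidHom = A :=
    eq_of_le_of_card_ge hle (card_map_of_injective (MulAut.conj g).injective).ge
  rw [mem_normalizer_iff]
  refine fun a => ⟨h a, fun ha => ?_⟩
  rw [← heq] at ha
  obtain ⟨b, hb, hba⟩ := ha
  have : b = a := (MulAut.conj g).injective (by simpa using hba)
  exact this ▸ hb

theorem conj_smul_normal {M : Type u} [Group M] (g : M) (T : Subgroup M) [T.Normal] :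
    MulAut.conj g • T = T := by
  ext x
  rw [Subgroup.mem_pointwise_smul_iff_inv_smul_mem]
  constructor
  · intro h
    have := (inferInstance : T.Normal).conj_mem _ h g
    simpa [mul_assoc] using this
  · intro h
    have := (inferInstance : T.Normal).conj_mem x h g⁻¹
    simpa [mul_assoc] using this

/-- A `p`-subgroup of `M` is conjugate inside `M` into a subgroup of `M` of index prime to `p`. -/
theorem conj_into {p : ℕ} [Fact p.Prime] {M R S : Subgroup G} (hR : IsPGroup p R)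
    (hRM : R ≤ M) (hidx : ¬ p ∣ R.relIndex M) (hS : IsPGroup p S) (hSM : S ≤ M) :
    ∃ m ∈ M, ∀ s ∈ S, m * s * m⁻¹ ∈ R := by
  have hR0 : IsPGroup p (R.subgroupOf M) := hR.of_equiv (subgroupOfEquivOfLe hRM).symm
  have hS0 : IsPGroup p (S.subgroupOf M) := hS.of_equiv (subgroupOfEquivOfLe hSM).symm
  let R0 : Sylow p M := hR0.toSylow hidx
  obtain ⟨S0, hS0'⟩ := hS0.exists_le_sylow
  obtain ⟨m, hm⟩ := MulAction.exists_smul_eq M S0 R0
  refine ⟨m, m.2, fun s hs => ?_⟩
  have h2 : (MulAut.conj m • (⟨s, hSM hs⟩ : M)) ∈ (R0 : Subgroup M) := by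
    rw [← hm, Sylow.coe_subgroup_smul]
    exact Subgroup.smul_mem_pointwise_smul _ _ _ (hS0' (mem_subgroupOf.2 hs))
  exact mem_subgroupOf.1 (h2 : (MulAut.conj m • (⟨s, hSM hs⟩ : M)) ∈ R.subgroupOf M)

theorem not_dvd_index_of_sylow_le {q : ℕ} [Fact q.Prime] {D : Subgroup G} (Q : Sylow q G)
    (h : (Q : Subgroup G) ≤ D) : ¬ q ∣ D.index :=
  fun hd => Q.not_dvd_index (hd.trans (index_dvd_of_le h))

/-- A normal subgroup of π-index has a supplement which is a π-subgroup. -/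
theorem exists_pi_supplement (N : Subgroup G) [N.Normal]
    (hN : ∀ q : ℕ, q.Prime → q ∣ N.index → q ∈ π) :
    ∃ X : Subgroup G, Cfsg.IsPiSubgroup π X ∧ X ⊔ N = ⊤ := by
  obtain ⟨X, hX, hmin⟩ := Set.exists_min_image {X : Subgroup G | X ⊔ N = ⊤} (fun X => Nat.card X)
    (Set.toFinite _) ⟨⊤, top_sup_eq N⟩
  refine ⟨X, fun q hq hqd => ?_, hX⟩
  by_contra hqπ
  haveI := Fact.mk hq
  set F := N.subgroupOf X
  have hFrat : F ≤ frattini X := by
    refine le_iInf₂ fun U hU => ?_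
    by_contra hUF
    have htop : U ⊔ F = ⊤ :=
      hU.2 _ (lt_of_le_of_ne le_sup_left (fun h => hUF (h.symm ▸ le_sup_right)))
    have h2 : U.map X.subtype ⊔ N = ⊤ := by
      rw [eq_top_iff, ← (hX : X ⊔ N = ⊤)]
      refine sup_le (fun v hv => ?_) le_sup_right
      have h3 := map_mono (f := X.subtype) htop.ge (mem_map_of_mem X.subtype (mem_top ⟨v, hv⟩))
      rw [Subgroup.map_sup] at h3
      have hle : F.map X.subtype ≤ N := by
        rintro _ ⟨y, hy, rfl⟩; exact hy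
      exact sup_le_sup_left hle _ h3
    have h3 := hmin _ h2
    simp only [card_map_of_injective X.subtype_injective] at h3
    exact hU.1 (eq_top_of_le_card _ h3)
  obtain ⟨Q⟩ := (inferInstance : Nonempty (Sylow q X))
  have hQF : (Q : Subgroup X) ≤ F := by
    intro u hu
    rw [mem_subgroupOf, ← QuotientGroup.eq_one_iff, ← orderOf_eq_one_iff]
    obtain ⟨k, hk⟩ := IsPGroup.iff_orderOf.1 Q.isPGroup' ⟨u, hu⟩
    rw [Subgroup.orderOf_mk] at hk
    refine Nat.eq_one_of_dvd_coprimes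
      ((hq.coprime_iff_not_dvd.2 fun h => hqπ (hN q hq h)).pow_left k) ?_ (orderOf_dvd_natCard _)
    rw [← hk]
    exact orderOf_map_dvd ((QuotientGroup.mk' N).comp X.subtype) u
  have hn : (Q : Subgroup X).Normal := by
    have hQΦ : (Q : Subgroup X) ≤ frattini X := hQF.trans hFrat
    have hnil : Group.IsNilpotent (frattini X) := frattini_nilpotent
    let Q' : Sylow q (frattini X) := Q.subtype hQΦ
    have h1 : (Q' : Subgroup (frattini X)).Normal := inferInstance
    have := Q'.characteristic_of_normal h1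
    have h4 : ((Q' : Subgroup (frattini X)).map (frattini X).subtype).Normal := inferInstance
    rwa [Sylow.coe_subtype, map_subgroupOf_eq_of_le hQΦ] at h4
  obtain ⟨K, hK⟩ := Subgroup.exists_right_complement'_of_coprime (N := (Q : Subgroup X))
    Q.card_coprime_index
  have hK1 : K = ⊤ := by
    refine frattini_nongenerating ?_
    rw [eq_top_iff, ← hK.sup_eq_top, sup_comm K]
    exact sup_le_sup_right (hQF.trans hFrat) K
  have h5 := hK.card_mul
  rw [hK1, Subgroup.card_top] at h5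
  have h6 : Nat.card (Q : Subgroup X) = 1 :=
    Nat.eq_of_mul_eq_mul_right (Nat.card_pos (α := X)) (h5.trans (one_mul _).symm)
  exact Q.ne_bot_of_dvd_card hqd (card_eq_one.1 h6)

/-- The elements of `N(B)` inducing on `B` an automorphism induced by `H`. -/
def agree (H B : Subgroup G) : Subgroup G where
  carrier := {n | n ∈ normalizer (B : Set G) ∧ ∃ h ∈ H, ∀ b ∈ B, h * b * h⁻¹ = n * b * n⁻¹}
  one_mem' := ⟨one_mem _, 1, one_mem _, fun b _ => rfl⟩
  mul_mem' := by
    rintro n m ⟨hn, h, hh, hn'⟩ ⟨hm, k, hk, hm'⟩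
    refine ⟨mul_mem hn hm, h * k, mul_mem hh hk, fun b hb => ?_⟩
    have h1 := hn' _ ((mem_normalizer_iff.1 hm b).1 hb)
    calc h * k * b * (h * k)⁻¹ = h * (k * b * k⁻¹) * h⁻¹ := by group
      _ = h * (m * b * m⁻¹) * h⁻¹ := by rw [hm' b hb]
      _ = n * (m * b * m⁻¹) * n⁻¹ := h1
      _ = n * m * b * (n * m)⁻¹ := by group
  inv_mem' := by
    rintro n ⟨hn, h, hh, hn'⟩
    refine ⟨inv_mem hn, h⁻¹, inv_mem hh, fun b hb => ?_⟩
    have h1 := hn' _ ((mem_normalizer_iff.1 (inv_mem hn) b).1 hb)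
    calc h⁻¹ * b * h⁻¹⁻¹ = h⁻¹ * (n * (n⁻¹ * b * n⁻¹⁻¹) * n⁻¹) * h⁻¹⁻¹ := by group
      _ = h⁻¹ * (h * (n⁻¹ * b * n⁻¹⁻¹) * h⁻¹) * h⁻¹⁻¹ := by rw [h1]
      _ = n⁻¹ * b * n⁻¹⁻¹ := by group

theorem centralizer_le_agree {H B : Subgroup G} : centralizer (B : Set G) ≤ agree H B := by
  intro c hc
  refine ⟨centralizer_le_normalizer _ hc, 1, one_mem _, fun b hb => ?_⟩
  rw [← mem_centralizer_iff.1 hc b hb]
  group

theorem le_agree {H B : Subgroup G} : H ⊓ normalizer (B : Set G) ≤ agree H B :=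
  fun h hh => ⟨hh.2, h, hh.1, fun _ _ => rfl⟩

/-- `H` controls the fusion of `A` in `P`. -/
def Ctrl (H P A : Subgroup G) : Prop :=
  ∀ g : G, (∀ a ∈ A, g * a * g⁻¹ ∈ P) → ∃ h ∈ H, ∀ a ∈ A, h * a * h⁻¹ = g * a * g⁻¹

variable {H P : Subgroup G} {p : ℕ} [Fact p.Prime]

/-- A π-subgroup can be moved into `H` so that a given `p`-subgroup of it goes into `P`. -/
theorem Hyp.move (hy : Hyp π H) (hP : IsPGroup p P) (hPH : P ≤ H) (hidx : ¬ p ∣ P.index)
    {Y Q : Subgroup G} (hY : Cfsg.IsPiSubgroup π Y) (hQY : Q ≤ Y) (hQ : IsPGroup p Q) :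
    ∃ z : G, (∀ y ∈ Y, z * y * z⁻¹ ∈ H) ∧ ∀ q ∈ Q, z * q * z⁻¹ ∈ P := by
  obtain ⟨k, hk⟩ := hy.dom Y hY
  have hle : Q.map (MulAut.conj k).toMonoidHom ≤ H := by
    rintro _ ⟨q, hq, rfl⟩
    simpa using hk q (hQY hq)
  have hidx' : ¬ p ∣ P.relIndex H := fun h => hidx (h.trans (relIndex_dvd_index_of_le hPH))
  obtain ⟨h, hh, hm⟩ := conj_into hP hPH hidx' (hQ.map _) hle
  refine ⟨h * k, fun y hy' => ?_, fun q hq => ?_⟩
  · have := mul_mem (mul_mem hh (hk y hy')) (inv_mem hh)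
    simpa [mul_assoc] using this
  · simpa [mul_assoc] using hm _ ⟨q, hq, rfl⟩

theorem Hyp.ctrl_top (hy : Hyp π H) (hp : p ∈ π) (hP : IsPGroup p P) (hPH : P ≤ H)
    (hidx : ¬ p ∣ P.index) : Ctrl H P P := by
  intro g hg
  have hgN : g ∈ normalizer (P : Set G) := mem_normalizer_of_conj_mem hg
  suffices h : normalizer (P : Set G) ≤ agree H P from (h hgN).2
  have hPπ := pi_of_pGroup hp hP
  set M := normalizer (P : Set G) with hM
  have key : ∀ q : ℕ, q.Prime → ¬ q ∣ ((agree H P).subgroupOf M).index := by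
    intro q hq
    haveI := Fact.mk hq
    obtain ⟨Q⟩ := (inferInstance : Nonempty (Sylow q M))
    by_cases hqπ : q ∈ π
    · have hYπ : Cfsg.IsPiSubgroup π ((Q : Subgroup M).map M.subtype ⊔ P) :=
        pi_sup (pi_map (pi_of_pGroup hqπ Q.isPGroup') _) hPπ (map_subtype_le _)
      obtain ⟨z, hzY, hzP⟩ := hy.move hP hPH hidx hYπ le_sup_right hP
      have hz : z ∈ M := mem_normalizer_of_conj_mem hzP
      refine not_dvd_index_of_sylow_le ((⟨z, hz⟩ : M) • Q) ?_
      rw [Sylow.coe_subgroup_smul]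
      rintro _ ⟨x, hx, rfl⟩
      refine mem_subgroupOf.2 (le_agree ⟨?_, ?_⟩)
      · simpa using hzY x (mem_sup_left ⟨x, hx, rfl⟩)
      · exact SetLike.coe_mem _
    · refine not_dvd_index_of_sylow_le Q fun x hx => mem_subgroupOf.2 (centralizer_le_agree ?_)
      have hord : ∀ r : ℕ, r.Prime → r ∣ orderOf (x : G) → r ∉ π := by
        intro r hr hrd
        obtain ⟨k, hk⟩ := IsPGroup.iff_orderOf.1 Q.isPGroup' ⟨x, hx⟩
        rw [Subgroup.orderOf_mk, ← Subgroup.orderOf_coe] at hk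
        rw [hk] at hrd
        rwa [(Nat.prime_dvd_prime_iff_eq hr hq).1 (hr.dvd_of_dvd_pow hrd)]
      rw [mem_centralizer_iff]
      intro y hyP
      have := hy.hom P hPπ x x.2 hord y hyP
      calc y * (x : G) = (x : G) * y * (x : G)⁻¹ * x := by rw [this]
        _ = x * y := by group
  intro n hn
  have htop : (agree H P).subgroupOf M = ⊤ :=
    index_eq_one.1 (by_contra fun hne => by
      obtain ⟨q, hq, hd⟩ := Nat.exists_prime_and_dvd hne
      exact key q hq hd)
  exact (mem_subgroupOf (h := ⟨n, hn⟩)).1 (htop ▸ mem_top _)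

/-- The automizer of a fully normalized proper subgroup of `P` comes from `H`. -/
theorem Hyp.normalizer_le_agree (hy : Hyp π H) (hp : p ∈ π) (hP : IsPGroup p P) (hPH : P ≤ H)
    (hidx : ¬ p ∣ P.index) {B : Subgroup G} (hBP : B < P)
    (hfn : ¬ p ∣ (P ⊓ normalizer (B : Set G)).relIndex (normalizer (B : Set G)))
    (ih : ∀ A : Subgroup G, A ≤ P → B < A → Ctrl H P A) :
    normalizer (B : Set G) ≤ agree H B := by
  set M := normalizer (B : Set G) with hM
  set R := P ⊓ M with hR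
  have hBM : B ≤ M := le_normalizer
  have hBR : B < R := by
    refine lt_of_le_of_ne (le_inf hBP.le hBM) fun h => ?_
    have h1 := CfsgLib.Fusion.lt_inf_normalizer hP hBP
    exact h1.ne h
  have hBπ := pi_of_pGroup hp (hP.to_le hBP.le)
  set N0 := (centralizer (B : Set G)).subgroupOf M with hN0
  haveI hB0n : (B.subgroupOf M).Normal := normal_in_normalizer
  haveI hN0n : N0.Normal := by
    constructor
    rintro ⟨c, hc'⟩ hc ⟨g, hg⟩
    rw [hN0, mem_subgroupOf] at hc ⊢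
    simp only [Subgroup.coe_mul, InvMemClass.coe_inv]
    rw [mem_centralizer_iff] at hc ⊢
    intro b hb
    have h1 : g⁻¹ * b * g ∈ B := by
      have := (mem_normalizer_iff.1 (inv_mem hg) b).1 hb
      rwa [inv_inv] at this
    calc b * (g * c * g⁻¹) = g * (g⁻¹ * b * g * c) * g⁻¹ := by group
      _ = g * (c * (g⁻¹ * b * g)) * g⁻¹ := by rw [hc _ h1]
      _ = g * c * g⁻¹ * b := by group
  have hN0π : ∀ q : ℕ, q.Prime → q ∣ N0.index → q ∈ π := by
    intro q hq hd
    by_contra hqπ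
    haveI := Fact.mk hq
    obtain ⟨Q⟩ := (inferInstance : Nonempty (Sylow q M))
    refine not_dvd_index_of_sylow_le Q (fun x hx => ?_) hd
    have hord : ∀ r : ℕ, r.Prime → r ∣ orderOf (x : G) → r ∉ π := by
      intro r hr hrd
      obtain ⟨k, hk⟩ := IsPGroup.iff_orderOf.1 Q.isPGroup' ⟨x, hx⟩
      rw [Subgroup.orderOf_mk, ← Subgroup.orderOf_coe] at hk
      rw [hk] at hrd
      rwa [(Nat.prime_dvd_prime_iff_eq hr hq).1 (hr.dvd_of_dvd_pow hrd)]
    rw [hN0, mem_subgroupOf, mem_centralizer_iff]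
    intro y hyB
    have := hy.hom B hBπ x x.2 hord y hyB
    calc y * (x : G) = (x : G) * y * (x : G)⁻¹ * x := by rw [this]
      _ = x * y := by group
  obtain ⟨X, hXπ, hX⟩ := exists_pi_supplement N0 hN0π
  have hR0 : IsPGroup p (R.subgroupOf M) :=
    (hP.to_le inf_le_left).of_equiv (subgroupOfEquivOfLe inf_le_right).symm
  let R0 : Sylow p M := hR0.toSylow hfn
  set X1 := X ⊔ B.subgroupOf M with hX1
  have hX1π : Cfsg.IsPiSubgroup π X1 := by
    refine pi_sup hXπ (fun q hq hd => hBπ q hq ?_) le_normalizer_of_normal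
    rwa [Nat.card_congr (subgroupOfEquivOfLe hBM).toEquiv] at hd
  obtain ⟨S⟩ := (inferInstance : Nonempty (Sylow p X1))
  obtain ⟨S', hS'⟩ := (S.isPGroup'.map X1.subtype).exists_le_sylow
  obtain ⟨m, hm⟩ := MulAction.exists_smul_eq M S' R0
  -- after conjugating, `R` contains a Sylow subgroup of the supplement
  set X2 := MulAut.conj m • X1 with hX2
  have hX2π : Cfsg.IsPiSubgroup π X2 := fun q hq hd => hX1π q hq (by
    rwa [hX2, ← Nat.card_congr (Subgroup.equivSMul (MulAut.conj m) X1).toEquiv] at hd)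
  have hBX2 : B.subgroupOf M ≤ X2 := by
    rw [hX2, ← conj_smul_normal m (B.subgroupOf M)]
    exact pointwise_smul_le_pointwise_smul_iff.2 le_sup_right
  have hX2top : X2 ⊔ N0 = ⊤ := by
    have h1 : X1 ⊔ N0 = ⊤ := top_le_iff.1 (hX ▸ sup_le_sup_right le_sup_left N0)
    have h2 := congrArg (fun T : Subgroup M => MulAut.conj m • T) h1
    simp only [Subgroup.smul_sup] at h2
    rwa [conj_smul_normal m N0, conj_smul_normal m (⊤ : Subgroup M)] at h2
  have hsyl : ¬ p ∣ ((R.subgroupOf M) ⊓ X2).relIndex X2 := by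
    have h1 : MulAut.conj m • (S : Subgroup X1).map X1.subtype ≤ (R.subgroupOf M) ⊓ X2 := by
      refine le_inf ?_ (pointwise_smul_le_pointwise_smul_iff.2 (map_subtype_le _))
      have h2 : MulAut.conj m • (S' : Subgroup M) = R.subgroupOf M := by
        rw [← Sylow.coe_subgroup_smul, hm]; rfl
      exact h2 ▸ pointwise_smul_le_pointwise_smul_iff.2 hS'
    intro hd
    refine S.not_dvd_index (hd.trans ?_)
    refine (relIndex_dvd_of_le_left _ h1).trans (dvd_of_eq ?_)
    rw [hX2, Subgroup.relIndex_pointwise_smul]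
    have h3 := relIndex_map_map_of_injective (S : Subgroup X1) ⊤ X1.subtype_injective
    rw [← MonoidHom.range_eq_map, range_subtype, relIndex_top_right] at h3
    exact h3
  have hN0a : N0 ≤ (agree H B).subgroupOf M := fun c hc => centralizer_le_agree hc
  suffices htop : (agree H B).subgroupOf M = ⊤ from
    fun n hn => (mem_subgroupOf (h := ⟨n, hn⟩)).1 (htop ▸ mem_top _)
  by_cases hcase : (R.subgroupOf M) ⊓ X2 = B.subgroupOf M
  · -- the image of `R` in the automizer is that of `B`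
    set D := B.subgroupOf M ⊔ N0 with hD
    have hDidx : ¬ p ∣ D.index := by
      intro hd
      refine hsyl ?_
      rw [hcase]
      refine hd.trans ?_
      have h1 : D.relIndex X2 = D.index := by
        rw [← relIndex_top_right (H := D), ← Subgroup.relIndex_sup_right (H := X2) (K := D)]
        congr 1
        exact top_le_iff.1 (hX2top ▸ sup_le_sup_left le_sup_right X2)
      exact h1 ▸ relIndex_dvd_of_le_left _ le_sup_left
    have hRD : R.subgroupOf M ≤ D := by
      intro x hx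
      rw [← QuotientGroup.eq_one_iff, ← orderOf_eq_one_iff]
      obtain ⟨k, hk⟩ := IsPGroup.iff_orderOf.1 hR0 ⟨x, hx⟩
      rw [Subgroup.orderOf_mk] at hk
      refine Nat.eq_one_of_dvd_coprimes
        (((Fact.out : p.Prime).coprime_iff_not_dvd.2 hDidx).pow_left k) ?_ (orderOf_dvd_natCard _)
      rw [← hk]
      exact orderOf_map_dvd (QuotientGroup.mk' D) x
    let RD : Sylow p D := R0.subtype hRD
    have hfr := RD.normalizer_sup_eq_top
    have hRD' : (RD : Subgroup D).map D.subtype = R.subgroupOf M := by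
      show ((R.subgroupOf M).subgroupOf D).map D.subtype = _
      exact map_subgroupOf_eq_of_le hRD
    rw [hRD'] at hfr
    rw [eq_top_iff, ← hfr]
    refine sup_le (fun n hn => mem_subgroupOf.2 ?_) (sup_le (fun b hb => ?_) hN0a)
    · have hn' : ∀ r ∈ R, (n : G) * r * (n : G)⁻¹ ∈ P := fun r hr =>
        ((mem_subgroupOf.1 ((mem_normalizer_iff.1 hn ⟨r, hr.2⟩).1 (mem_subgroupOf.2 hr))) :
          (n : G) * r * (n : G)⁻¹ ∈ R).1
      obtain ⟨h, hh, he⟩ := ih R inf_le_left hBR (n : G) hn'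
      exact ⟨n.2, h, hh, fun b hb => he b (hBR.le hb)⟩
    · exact mem_subgroupOf.2 (le_agree ⟨hPH (hBP.le (mem_subgroupOf.1 hb)), b.2⟩)
  · -- the supplement contains a larger `p`-subgroup of `P`
    set Q := ((R.subgroupOf M) ⊓ X2).map M.subtype with hQ
    have hQP : Q ≤ P := by
      rintro _ ⟨x, hx, rfl⟩
      exact (mem_subgroupOf.1 hx.1).1
    have hBQ : B < Q := by
      have h1 : B.subgroupOf M ≤ (R.subgroupOf M) ⊓ X2 :=
        le_inf (fun x hx => hBR.le hx) hBX2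
      refine lt_of_le_of_ne ?_ fun h => hcase ?_
      · rw [hQ, ← map_subgroupOf_eq_of_le hBM]
        exact map_mono h1
      · refine map_injective M.subtype_injective ?_
        rw [map_subgroupOf_eq_of_le hBM, ← hQ, ← h]
    obtain ⟨z, hzY, hzQ⟩ := hy.move hP hPH hidx (pi_map hX2π M.subtype)
      (map_mono inf_le_right) (hP.to_le hQP)
    obtain ⟨h, hh, he⟩ := ih Q hQP hBQ z hzQ
    rw [eq_top_iff, ← hX2top]
    refine sup_le (fun x hx => mem_subgroupOf.2 ⟨x.2, ?_⟩) hN0a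
    have hxB : ∀ b ∈ B, (x : G) * b * (x : G)⁻¹ ∈ B := fun b hb =>
      (mem_normalizer_iff.1 x.2 b).1 hb
    refine ⟨h⁻¹ * (z * x * z⁻¹) * h,
      mul_mem (mul_mem (inv_mem hh) (hzY x ⟨x, hx, rfl⟩)) hh, fun b hb => ?_⟩
    calc h⁻¹ * (z * x * z⁻¹) * h * b * (h⁻¹ * (z * x * z⁻¹) * h)⁻¹
        = h⁻¹ * (z * x * z⁻¹ * (h * b * h⁻¹) * (z * x * z⁻¹)⁻¹) * h := by group
      _ = h⁻¹ * (z * x * z⁻¹ * (z * b * z⁻¹) * (z * x * z⁻¹)⁻¹) * h := by rw [he b (hBQ.le hb)]
      _ = h⁻¹ * (z * (x * b * (x : G)⁻¹) * z⁻¹) * h := by group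
      _ = h⁻¹ * (h * (x * b * (x : G)⁻¹) * h⁻¹) * h := by rw [he _ (hBQ.le (hxB b hb))]
      _ = x * b * (x : G)⁻¹ := by group

/-- `H` controls the fusion in its Sylow subgroup. -/
theorem Hyp.ctrl (hy : Hyp π H) (hp : p ∈ π) (hP : IsPGroup p P) (hPH : P ≤ H)
    (hidx : ¬ p ∣ P.index) : ∀ A : Subgroup G, A ≤ P → Ctrl H P A := by
  suffices h : ∀ n : ℕ, ∀ A : Subgroup G, A ≤ P → Nat.card P - Nat.card A ≤ n → Ctrl H P A from
    fun A hA => h _ A hA le_rfl
  intro n
  induction n using Nat.strong_induction_on with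
  | _ n IH =>
  intro A hA hn
  have hbig : ∀ A' : Subgroup G, A' ≤ P → Nat.card A < Nat.card A' → Ctrl H P A' := by
    intro A' hA' hlt
    have := card_le_of_le hA'
    exact IH (Nat.card P - Nat.card A') (by omega) A' hA' le_rfl
  rcases eq_or_lt_of_le hA with rfl | hAlt
  · exact hy.ctrl_top hp hP hPH hidx
  -- a fully normalized conjugate
  set cls : Set (Subgroup G) := {B | B ≤ P ∧ ∃ g : G, B = A.map (MulAut.conj g).toMonoidHom}
  obtain ⟨B, ⟨hBP, u, rfl⟩, hmax⟩ := Set.exists_max_image cls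
    (fun B : Subgroup G => Nat.card ↥(P ⊓ normalizer (B : Set G))) (Set.toFinite _)
    ⟨A, hA, 1, by ext; simp⟩
  set B := A.map (MulAut.conj u).toMonoidHom with hB
  have hcB : Nat.card B = Nat.card A := card_map_of_injective (MulAut.conj u).injective
  have hBlt : B < P := lt_of_le_of_ne hBP fun h => by
    have h1 : Nat.card A = Nat.card P := hcB ▸ (by rw [h])
    exact hAlt.ne (eq_of_le_of_card_ge hA h1.ge)
  set M := normalizer (B : Set G)
  have hfn : ¬ p ∣ (P ⊓ M).relIndex M := by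
    have hR0 : IsPGroup p ((P ⊓ M).subgroupOf M) :=
      (hP.to_le inf_le_left).of_equiv (subgroupOfEquivOfLe inf_le_right).symm
    obtain ⟨S, hS⟩ := hR0.exists_le_sylow
    have hSG : IsPGroup p ((S : Subgroup M).map M.subtype) := S.isPGroup'.map _
    obtain ⟨t, -, ht⟩ := conj_into hP le_top (by rwa [relIndex_top_right]) hSG le_top
    have hBS : B ≤ (S : Subgroup M).map M.subtype := fun b hb =>
      ⟨⟨b, le_normalizer hb⟩, hS (mem_subgroupOf.2 ⟨hBP hb, le_normalizer hb⟩), rfl⟩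
    have hB' : B.map (MulAut.conj t).toMonoidHom ∈ cls := by
      refine ⟨?_, t * u, ?_⟩
      · rintro _ ⟨b, hb, rfl⟩
        simpa using ht b (hBS hb)
      · rw [hB, Subgroup.map_map]
        congr 1
        ext x
        simp [mul_assoc]
    have hle : ((S : Subgroup M).map M.subtype).map (MulAut.conj t).toMonoidHom ≤
        P ⊓ normalizer ((B.map (MulAut.conj t).toMonoidHom : Subgroup G) : Set G) := by
      refine le_inf ?_ ?_
      · rintro _ ⟨s, hs, rfl⟩
        simpa using ht s hs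
      · exact (map_mono (map_subtype_le _)).trans (le_normalizer_map _)
    have h1 := (card_le_of_le hle).trans (hmax _ hB')
    rw [card_map_of_injective (MulAut.conj t).injective,
      card_map_of_injective M.subtype_injective] at h1
    have h2 : (P ⊓ M).subgroupOf M = (S : Subgroup M) := by
      refine eq_of_le_of_card_ge hS (h1.trans ?_)
      rw [Nat.card_congr (subgroupOfEquivOfLe inf_le_right).toEquiv]
    show ¬ p ∣ ((P ⊓ M).subgroupOf M).index
    rw [h2]
    exact S.not_dvd_index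
  have hauto := hy.normalizer_le_agree hp hP hPH hidx hBlt hfn (fun A' h1 h2 => hbig A' h1
    (hcB ▸ lt_of_le_of_ne (card_le_of_le h2.le) fun h => h2.ne (eq_of_le_of_card_ge h2.le h.ge)))
  -- move the normalizer of a conjugate of `A` onto that of `B`
  have hmove : ∀ g : G, (∀ a ∈ A, g * a * g⁻¹ ∈ P) →
      ∃ h ∈ H, ∀ a ∈ A, h * (g * a * g⁻¹) * h⁻¹ ∈ B := by
    intro g hg
    set A' := A.map (MulAut.conj g).toMonoidHom with hA'
    have hA'P : A' ≤ P := by
      rintro _ ⟨a, ha, rfl⟩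
      simpa using hg a ha
    have hcA' : Nat.card A' = Nat.card A := card_map_of_injective (MulAut.conj g).injective
    have hA'lt : A' < P := lt_of_le_of_ne hA'P fun h => by
      have h1 : Nat.card A = Nat.card P := hcA' ▸ (by rw [h])
      exact hAlt.ne (eq_of_le_of_card_ge hA h1.ge)
    set N := P ⊓ normalizer (A' : Set G)
    have hN : Nat.card A < Nat.card N := by
      have h1 : A' < N := CfsgLib.Fusion.lt_inf_normalizer hP hA'lt
      exact hcA' ▸ lt_of_le_of_ne (card_le_of_le h1.le)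
        fun h => h1.ne (eq_of_le_of_card_ge h1.le h.ge)
    have hw : A'.map (MulAut.conj (u * g⁻¹)).toMonoidHom = B := by
      rw [hA', hB, Subgroup.map_map]
      congr 1
      ext x
      simp [mul_assoc]
    have hNM : N.map (MulAut.conj (u * g⁻¹)).toMonoidHom ≤ M := by
      refine (map_mono inf_le_right).trans ((le_normalizer_map _).trans (le_of_eq ?_))
      rw [hw]
    obtain ⟨m, hm, hm'⟩ := conj_into (hP.to_le inf_le_left) inf_le_right hfn
      ((hP.to_le inf_le_left).map _) hNM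
    set w := m * (u * g⁻¹) with hwdef
    have hwN : ∀ x ∈ N, w * x * w⁻¹ ∈ P := fun x hx => by
      have := (hm' _ ⟨x, hx, rfl⟩).1
      simpa [hwdef, mul_assoc] using this
    obtain ⟨h, hh, he⟩ := hbig N inf_le_left hN w hwN
    refine ⟨h, hh, fun a ha => ?_⟩
    have haA' : g * a * g⁻¹ ∈ A' := ⟨a, ha, by simp⟩
    rw [he _ ⟨hA'P haA', le_normalizer haA'⟩]
    have hb : u * a * u⁻¹ ∈ B := ⟨a, ha, by simp⟩
    have := (mem_normalizer_iff.1 hm _).1 hb
    simpa [hwdef, mul_assoc] using this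
  intro g hg
  obtain ⟨h1, hh1, he1⟩ := hmove g hg
  obtain ⟨h0, hh0, he0⟩ := hmove 1 (fun a ha => by simpa using hA ha)
  simp only [one_mul, inv_one, mul_one] at he0
  have hn : h1 * g * h0⁻¹ ∈ M := by
    refine mem_normalizer_of_conj_mem fun b hb => ?_
    obtain ⟨a, ha, rfl⟩ : ∃ a ∈ A, h0 * a * h0⁻¹ = b := by
      have heq : A.map (MulAut.conj h0).toMonoidHom = B := by
        refine eq_of_le_of_card_ge ?_ (le_of_eq ?_)
        · rintro _ ⟨a, ha, rfl⟩
          simpa using he0 a ha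
        · rw [hcB, card_map_of_injective (MulAut.conj h0).injective]
      rw [← heq] at hb
      obtain ⟨a, ha, rfl⟩ := hb
      exact ⟨a, ha, by simp⟩
    have := he1 a ha
    convert this using 1
    group
  obtain ⟨-, h, hh, he⟩ := hauto hn
  refine ⟨h1⁻¹ * h * h0, mul_mem (mul_mem (inv_mem hh1) hh) hh0, fun a ha => ?_⟩
  calc h1⁻¹ * h * h0 * a * (h1⁻¹ * h * h0)⁻¹ = h1⁻¹ * (h * (h0 * a * h0⁻¹) * h⁻¹) * h1 := by group
    _ = h1⁻¹ * (h1 * g * h0⁻¹ * (h0 * a * h0⁻¹) * (h1 * g * h0⁻¹)⁻¹) * h1 := by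
        rw [he _ (he0 a ha)]
    _ = g * a * g⁻¹ := by group

omit [Fact p.Prime] in
/-- Conjugate `p`-elements of `H` are conjugate in `H`. -/
theorem Hyp.fusion_pElement (hy : Hyp π H) (hp : p.Prime) (hpπ : p ∈ π) {x : G} (g : G) {k : ℕ}
    (hx : x ^ p ^ k = 1) (hxH : x ∈ H) (hgH : g * x * g⁻¹ ∈ H) :
    ∃ h ∈ H, h * x * h⁻¹ = g * x * g⁻¹ := by
  haveI := Fact.mk hp
  obtain ⟨P0⟩ := (inferInstance : Nonempty (Sylow p G))
  obtain ⟨t, ht⟩ := hy.dom _ (pi_of_pGroup hpπ P0.isPGroup')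
  set P := (P0 : Subgroup G).map (MulAut.conj t).toMonoidHom with hPdef
  have hPH : P ≤ H := by
    rintro _ ⟨a, ha, rfl⟩
    simpa using ht a ha
  have hP : IsPGroup p P := P0.isPGroup'.map _
  have hidx : ¬ p ∣ P.index := by
    rw [hPdef, index_map_of_bijective (MulAut.conj t).bijective]
    exact P0.not_dvd_index
  have hidx' : ¬ p ∣ P.relIndex H := fun h => hidx (h.trans (relIndex_dvd_index_of_le hPH))
  have hzp : ∀ y : G, y ^ p ^ k = 1 → IsPGroup p (zpowers y) := by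
    intro y hy'
    rintro ⟨z, hz⟩
    obtain ⟨i, rfl⟩ := mem_zpowers_iff.1 hz
    refine ⟨k, Subtype.ext ?_⟩
    show (y ^ i) ^ p ^ k = 1
    rw [← zpow_natCast (y ^ i), ← zpow_mul, mul_comm, zpow_mul, zpow_natCast, hy', one_zpow]
  obtain ⟨a, ha, ha'⟩ := conj_into hP hPH hidx' (hzp x hx) (zpowers_le.2 hxH)
  obtain ⟨b, hb, hb'⟩ := conj_into hP hPH hidx'
    (hzp (g * x * g⁻¹) (by rw [conj_pow, hx]; simp)) (zpowers_le.2 hgH)
  have hx' := ha' x (mem_zpowers x)
  have hgx' := hb' _ (mem_zpowers (g * x * g⁻¹))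
  obtain ⟨h, hh, he⟩ := hy.ctrl hpπ hP hPH hidx (zpowers (a * x * a⁻¹)) (zpowers_le.2 hx')
    (b * g * a⁻¹) (by
      intro c hc
      obtain ⟨i, rfl⟩ := mem_zpowers_iff.1 hc
      rw [← conj_zpow]
      refine zpow_mem ?_ i
      convert hgx' using 1
      group)
  refine ⟨b⁻¹ * h * a, mul_mem (mul_mem (inv_mem hb) hh) ha, ?_⟩
  calc b⁻¹ * h * a * x * (b⁻¹ * h * a)⁻¹ = b⁻¹ * (h * (a * x * a⁻¹) * h⁻¹) * b := by group
    _ = b⁻¹ * (b * g * a⁻¹ * (a * x * a⁻¹) * (b * g * a⁻¹)⁻¹) * b := by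
        rw [he _ (mem_zpowers _)]
    _ = g * x * g⁻¹ := by group

/-- Conjugate elements of `H` are conjugate in `H`. -/
theorem Hyp.fusion : ∀ {G : Type u} [Group G] [Finite G] {H : Subgroup G}, Hyp π H →
    ∀ x ∈ H, ∀ g : G, g * x * g⁻¹ ∈ H → ∃ h ∈ H, h * x * h⁻¹ = g * x * g⁻¹ := by
  suffices main : ∀ n : ℕ, ∀ (G : Type u) [Group G] [Finite G] (H : Subgroup G),
      Nat.card G ≤ n → Hyp π H →
      ∀ x ∈ H, ∀ g : G, g * x * g⁻¹ ∈ H → ∃ h ∈ H, h * x * h⁻¹ = g * x * g⁻¹ from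
    fun {G} _ _ {H} hy => main _ G H le_rfl hy
  intro n
  induction n using Nat.strong_induction_on with
  | _ n IHG =>
  intro G _ _ H hcard hy x
  induction ho : orderOf x using Nat.strong_induction_on generalizing x with
  | _ o IHo =>
  subst ho
  intro hxH g hgH
  by_cases hx1 : orderOf x = 1
  · rw [orderOf_eq_one_iff] at hx1
    exact ⟨1, one_mem _, by simp [hx1]⟩
  obtain ⟨p, hp, hpd⟩ := Nat.exists_prime_and_dvd hx1
  have hpπ : p ∈ π := hy.pi p hp (hpd.trans (H.orderOf_dvd_natCard hxH))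
  have ho0 : orderOf x ≠ 0 := (orderOf_pos x).ne'
  set e := (orderOf x).factorization p with he
  set m := orderOf x / p ^ e with hm
  have hem : p ^ e * m = orderOf x := Nat.ordProj_mul_ordCompl_eq_self _ p
  have hcop : Nat.Coprime (p ^ e) m :=
    (hp.coprime_iff_not_dvd.2 (Nat.not_dvd_ordCompl hp ho0)).pow_left e
  obtain ⟨i, j, hij⟩ : ∃ i j : ℤ, ((p ^ e : ℕ) : ℤ) * i + (m : ℤ) * j = 1 :=
    ⟨_, _, by rw [← Nat.gcd_eq_gcd_ab, hcop.gcd_eq_one]; rfl⟩
  set u := x ^ ((m : ℤ) * j) with hu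
  set x' := x ^ (((p ^ e : ℕ) : ℤ) * i) with hx'
  have hux : u * x' = x := by
    rw [hu, hx', ← zpow_add, add_comm, hij, zpow_one]
  have hone : x ^ ((p ^ e * m : ℕ) : ℤ) = 1 := by
    rw [hem, zpow_natCast, pow_orderOf_eq_one]
  have hue : u ^ p ^ e = 1 := by
    rw [hu, ← zpow_natCast, ← zpow_mul,
      show (m : ℤ) * j * ((p ^ e : ℕ) : ℤ) = ((p ^ e * m : ℕ) : ℤ) * j by push_cast; ring,
      zpow_mul, hone, one_zpow]
  have hx'm : x' ^ m = 1 := by
    rw [hx', ← zpow_natCast, ← zpow_mul,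
      show ((p ^ e : ℕ) : ℤ) * i * (m : ℤ) = ((p ^ e * m : ℕ) : ℤ) * i by push_cast; ring,
      zpow_mul, hone, one_zpow]
  have hmlt : m < orderOf x := by
    have he1 : 1 ≤ e := hp.factorization_pos_of_dvd ho0 hpd
    have hm0 : 0 < m := Nat.pos_of_ne_zero fun h => ho0 (by rw [← hem, h, mul_zero])
    rw [← hem]
    exact lt_mul_of_one_lt_left hm0 (Nat.one_lt_pow (by omega) hp.one_lt)
  have hx'o : orderOf x' < orderOf x :=
    lt_of_le_of_lt (Nat.le_of_dvd (Nat.pos_of_ne_zero fun h => ho0 (by rw [← hem, h, mul_zero]))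
      (orderOf_dvd_of_pow_eq_one hx'm)) hmlt
  have huH : u ∈ H := zpow_mem hxH _
  have hgu : g * u * g⁻¹ ∈ H := by
    rw [hu, ← conj_zpow]; exact zpow_mem hgH _
  obtain ⟨h0, hh0, he0⟩ := hy.fusion_pElement hp hpπ g hue huH hgu
  set c := h0⁻¹ * g with hc
  have hcu : c * u = u * c := by
    calc c * u = h0⁻¹ * (g * u * g⁻¹) * g := by rw [hc]; group
      _ = h0⁻¹ * (h0 * u * h0⁻¹) * g := by rw [he0]
      _ = u * c := by rw [hc]; group
  have hcx : c * x * c⁻¹ ∈ H := by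
    have := mul_mem (mul_mem (inv_mem hh0) hgH) hh0
    convert this using 1
    rw [hc]; group
  suffices h : ∃ h ∈ H, h * x * h⁻¹ = c * x * c⁻¹ by
    obtain ⟨h, hh, hhe⟩ := h
    refine ⟨h0 * h, mul_mem hh0 hh, ?_⟩
    calc h0 * h * x * (h0 * h)⁻¹ = h0 * (h * x * h⁻¹) * h0⁻¹ := by group
      _ = h0 * (c * x * c⁻¹) * h0⁻¹ := by rw [hhe]
      _ = g * x * g⁻¹ := by rw [hc]; group
  by_cases hcentral : ∀ y : G, y * u = u * y
  · have hx'H : x' ∈ H := zpow_mem hxH _
    have hcx' : c * x' * c⁻¹ ∈ H := by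
      rw [hx', ← conj_zpow]; exact zpow_mem hcx _
    obtain ⟨h, hh, hhe⟩ := IHo _ hx'o x' rfl hx'H c hcx'
    refine ⟨h, hh, ?_⟩
    calc h * x * h⁻¹ = h * u * (x' * h⁻¹) := by rw [← hux]; group
      _ = u * (h * x' * h⁻¹) := by rw [hcentral h]; group
      _ = u * (c * x' * c⁻¹) := by rw [hhe]
      _ = u * c * (x' * c⁻¹) := by group
      _ = c * u * (x' * c⁻¹) := by rw [hcentral c]
      _ = c * x * c⁻¹ := by rw [← hux]; group
  -- the centralizer of `u` is smaller and inherits the hypothesis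
  set C := centralizer ({u} : Set G) with hC
  have hmemC : ∀ {y : G}, y ∈ C ↔ y * u = u * y := fun {y} => mem_centralizer_singleton_iff
  have hxu : x * u = u * x := by rw [hu]; exact ((Commute.refl x).zpow_right _).eq
  have hClt : Nat.card C < Nat.card G := by
    refine lt_of_le_of_ne (Nat.le_of_dvd Nat.card_pos C.card_subgroup_dvd_card) fun h => hcentral ?_
    exact fun y => hmemC.1 (by rw [eq_top_of_le_card C h.ge]; exact mem_top y)
  have hyC : Hyp π (H.subgroupOf C) := by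
    refine ⟨?_, ?_, ?_⟩
    · intro q hq hd
      refine hy.pi q hq (hd.trans ?_)
      rw [← card_map_of_injective C.subtype_injective]
      exact card_dvd_of_le (by rintro _ ⟨y, hy', rfl⟩; exact mem_subgroupOf.1 hy')
    · intro Y hY
      have hZ : Cfsg.IsPiSubgroup π (zpowers u) := fun q hq hd => by
        rw [Nat.card_zpowers] at hd
        exact hy.pi q hq (hd.trans (H.orderOf_dvd_natCard huH))
      have hn : Y.map C.subtype ≤ normalizer (zpowers u : Set G) := by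
        refine le_trans ?_ (centralizer_le_normalizer _)
        rintro _ ⟨y, -, rfl⟩
        rw [mem_centralizer_iff]
        rintro z hz
        obtain ⟨l, rfl⟩ := mem_zpowers_iff.1 hz
        exact (Commute.zpow_left (hmemC.1 y.2).symm l).eq
      obtain ⟨k, hk⟩ := hy.dom _ (pi_sup (pi_map hY C.subtype) hZ hn)
      obtain ⟨h, hh, hhe⟩ := hy.fusion_pElement hp hpπ k hue huH
        (hk u (mem_sup_right (mem_zpowers u)))
      refine ⟨⟨h⁻¹ * k, hmemC.2 ?_⟩, fun y hy' => mem_subgroupOf.2 ?_⟩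
      · calc h⁻¹ * k * u = h⁻¹ * (k * u * k⁻¹) * k := by group
          _ = h⁻¹ * (h * u * h⁻¹) * k := by rw [hhe]
          _ = u * (h⁻¹ * k) := by group
      · have := mul_mem (mul_mem (inv_mem hh) (hk _ (mem_sup_left ⟨y, hy', rfl⟩))) hh
        simpa [mul_assoc] using this
    · intro Y hY nn hnn hord y hy'
      refine Subtype.ext ?_
      have hnG : (nn : G) ∈ normalizer ((Y.map C.subtype : Subgroup G) : Set G) :=
        le_normalizer_map C.subtype ⟨nn, hnn, rfl⟩
      exact hy.hom _ (pi_map hY C.subtype) nn hnG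
        (fun q hq hd => hord q hq (by rwa [Subgroup.orderOf_coe] at hd)) y ⟨y, hy', rfl⟩
  obtain ⟨h, hh, hhe⟩ := IHG (Nat.card C) (lt_of_lt_of_le hClt hcard) C (H.subgroupOf C) le_rfl hyC
    ⟨x, hmemC.2 hxu⟩ (mem_subgroupOf.2 hxH) ⟨c, hmemC.2 hcu⟩ (mem_subgroupOf.2 hcx)
  exact ⟨h, mem_subgroupOf.1 hh, congrArg Subtype.val hhe⟩

end CfsgLib.DPiHom
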